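import Cfsg.Agent.Spor.M11aN1.D0

set_option autoImplicit false
set_option maxRecDepth 100000000
set_option Elab.async false

namespace Cfsg.Agent.Spor.M11aN1

theorem ok0 : Net.okb 1 n0 = true := by decide +kernel

theorem ok1 : Net.okb 1 n1 = true := by decide +kernel

theorem rel0 : T.rel 1 [1, 1] 0 1 = true := by decide +kernel

theorem rel1 : T.rel 1 [2, 2, 1, 3, 3, 1, 3, 1, 3, 1, 2, 1, 3, 1, 2, 1, 2, 1, 3, 3, 1, 3, 3, 3, 1, 2, 1, 3, 1, 2, 1, 3, 1, 2, 2, 1, 3, 1, 2, 1, 3, 1, 2, 1, 2, 1, 3, 3, 1, 3, 1, 3, 1, 2, 1, 3, 1, 2, 1, 3, 3, 1, 2, 1, 3, 1, 2, 1, 3, 1, 2] 0 1 = true := by decide +kernel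

theorem rel2 : T.rel 1 [2, 2, 1, 3, 3, 1, 3, 3, 3, 1, 2, 1, 3, 1, 2, 1, 3, 1, 2, 2, 2, 1, 3, 3, 1, 3, 3, 3, 1, 2, 1, 3, 1, 2, 1, 3, 1, 2, 2, 2, 1, 3, 3, 1, 3, 3, 3, 1, 2, 1, 3, 1, 2, 1, 3, 1, 2] 0 1 = true := by decide +kernel

theorem rel3 : T.rel 1 [2, 2, 1, 3, 3, 3, 3, 1, 3, 3] 0 1 = true := by decide +kernel

theorem rel4 : T.rel 1 [] 0 1 = true := by decide +kernel

theorem rel5 : T.rel 1 [2, 2, 2, 2] 0 1 = true := by decide +kernel

theorem rel6 : T.rel 1 [2, 1, 2, 2, 1, 2, 1, 2, 1, 3, 1, 2, 1, 2, 2, 1, 3, 1, 2, 1, 3, 1, 2, 1, 3] 0 1 = true := by decide +kernel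

theorem rel7 : T.rel 1 [2, 1, 2, 2, 1, 3, 1, 2, 1, 2, 1, 3, 3, 1, 2, 1, 3, 1, 2, 1, 3, 1, 2, 2, 1, 3, 1, 2, 1, 3, 1, 2, 1, 2, 1, 2, 2, 1, 3, 1, 3, 1, 2, 1, 3, 1, 2, 1, 3] 0 1 = true := by decide +kernel

theorem rel8 : T.rel 1 [1] 0 1 = true := by decide +kernel

theorem hcov : T.treeCov (ones 1) L 1 = true := by decide +kernel

theorem hg : lall (fun z => band (memL L z) (band (sub (ones 1) (T.let z).cl) (T.closed (ones 1) z))) gs = true := by decide +kernel

theorem hivk : ivOk (2 * 1) EX IV = true := by decide +kernel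

theorem hrt : RT.ok (2 * 1) EX RL = true := by decide +kernel

theorem hdefs : defs F 6 = true := by decide +kernel

noncomputable def st0_l : List Nat := [nat_lit 0x1, nat_lit 0x80003402, nat_lit 0x1001, nat_lit 0x800001002, nat_lit 0x2001, nat_lit 0xa00002002, nat_lit 0xa0000300000803, nat_lit 0x640001c00018000050000580000c00012000038000580000c0001200001000038000300000a0000b8000180000e000170000300004c0000e000170000300004c19, nat_lit 0x60000d00006403, nat_lit 0xe00001802, nat_lit 0x48000040001f0000900000800006000120000100003800006000120000100003800006000120000f0000380003e000020000700007c00024000020000700000c00024000020000700000c00024000020000f8000480003c0000e0000f8000480003c0000e0000f8000480003c00003000090000080001c0001f0000900007831, nat_lit 0x180008402]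
theorem st0 : band (steps F IV RT base st0_l 6) (Nat.beq (Nat.add 6 (llen st0_l)) 18) = true := by decide +kernel

theorem ep0a : T.treePath [] (Nat.shiftLeft 1 0) 1 = true := by decide +kernel

theorem ep0b : T.treePath [] (Nat.shiftLeft 1 0) 1 = true := by decide +kernel

theorem ep0c : band (lall (fun z => Nat.ble z 255) ([] ++ 1 :: [])) (concl F IV 18 0x3801 (encA ([] ++ 1 :: []) 0)) = true := by decide +kernel

theorem ep0d : band (Rule.ok (2 * 1) EX [] ⟨lapp [] [], [], 0, false⟩) (band (lall (memL L) []) (lall (memL L) [])) = true := by decide +kernel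

theorem cov1 : T.cover 1 [(Nat.shiftLeft 1 0)] = true := by decide +kernel

theorem tl1 : Nat.beq (T.let 1).tt 0 = true := by decide +kernel

theorem ep1a : T.treePath [] (Nat.shiftLeft 1 0) 1 = true := by decide +kernel

theorem ep1b : T.treePath [] (Nat.shiftLeft 1 0) 1 = true := by decide +kernel

theorem ep1c : band (lall (fun z => Nat.ble z 255) ([] ++ 2 :: [])) (concl F IV 18 0x8801 (encA ([] ++ 2 :: []) 0)) = true := by decide +kernel

theorem ep1d : band (Rule.ok (2 * 1) EX [] ⟨lapp [] [], [], 0, false⟩) (band (lall (memL L) []) (lall (memL L) [])) = true := by decide +kernel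

theorem cov2 : T.cover 2 [(Nat.shiftLeft 1 0)] = true := by decide +kernel

theorem tl2 : Nat.beq (T.let 2).tt 0 = true := by decide +kernel

theorem rot3_1 : T.rot 3 [2] (sel (ones 1) ip3 1) = true := by decide +kernel

theorem rot3_1r : band (Rule.ok (2 * 1) EX RL ⟨3 :: [2], [], 9, false⟩) (lall (memL L) [2]) = true := by decide +kernel

theorem cov3 : T.cover 3 [(sel (ones 1) ip3 1)] = true := by decide +kernel

theorem tl3 : Nat.beq (T.let 3).tt 0 = true := by decide +kernel

end Cfsg.Agent.Spor.M11aN1
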