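import Cfsg.Agent.Spor.Chk

set_option autoImplicit false
set_option maxRecDepth 100000000
set_option Elab.async false
noncomputable section

namespace Cfsg.Agent.Spor.M11aN1

def n0 : Net := Net.nil

def n1 : Net := Net.nil

def ip1 : List Nat := []
def l1 : Let := ⟨0, false, 0x1, 0x0, [0x0]⟩

def ip2 : List Nat := []
def l2 : Let := ⟨1, false, 0x1, 0x0, [0x0]⟩

def ip3 : List Nat := [0x1]
def l3 : Let := ⟨1, true, 0x1, 0x0, [0x1]⟩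

def F : Nat := nat_lit 0x200000000000000002000020300000000000000004000020000006000000200006000040100004000040000005000020100002000020000003000000100000000000000001000060200004000050100004000040200002000030100002000020200000000010100000

def RT : RTree := RTree.node 0x302 ⟨[3, 2], [], 9, false⟩ (RTree.node 0x101 ⟨[1, 1], [], 9, false⟩ (RTree.node 0x1 ⟨[1], [], 8, true⟩ (RTree.leaf) (RTree.leaf)) (RTree.node 0x203 ⟨[2, 3], [], 9, false⟩ (RTree.leaf) (RTree.leaf))) (RTree.node 0x1020103010201030201020201020102010301020102020103 ⟨[1, 2, 1, 3, 1, 2, 1, 3, 2, 1, 2, 2, 1, 2, 1, 2, 1, 3, 1, 2, 1, 2, 2, 1, 3], [3, 0, 2, 0, 3, 0, 2, 0], 6, true⟩ (RTree.node 0x2020202 ⟨[2, 2, 2, 2], [], 5, true⟩ (RTree.leaf) (RTree.leaf)) (RTree.node 0x3010201020103030102010301020103010202010301020103010201020102020103010301020103010201030201020201 ⟨[3,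 1, 2, 1, 2, 1, 3, 3, 1, 2, 1, 3, 1, 2, 1, 3, 1, 2, 2, 1, 3, 1, 2, 1, 3, 1, 2, 1, 2, 1, 2, 2, 1, 3, 1, 3, 1, 2, 1, 3, 1, 2, 1, 3, 2, 1, 2, 2, 1], [3, 0, 3, 3, 0], 7, true⟩ (RTree.leaf) (RTree.leaf)))

def NT : List Net := [n0, n1]
def LT : List Let := [⟨0, false, 0, 0, []⟩, l1, l2, l3]
def T : Tab := ⟨NT, LT⟩
def EX : List (List Nat) := [[], [0], [2], [3]]
def RL : List (List Nat) := [[2, 0, 3, 0, 2, 0, 3, 0, 2, 0, 3, 3, 0, 2, 0, 3, 0, 2, 0, 3, 0, 3, 0, 3, 3, 0, 2, 0, 2, 0, 3, 0, 2, 0, 3, 0, 2, 2, 0, 3, 0, 2, 0, 3, 0, 2, 0, 3, 3, 3, 0, 3, 3, 0, 2, 0, 2, 0, 3, 0, 2, 0, 3, 0, 3, 0, 3, 3, 0, 2, 2], [2, 0, 3, 0, 2, 0, 3, 0, 2, 0, 3, 3, 3, 0, 3, 3, 0, 2, 2, 2, 0, 3, 0, 2, 0, 3, 0, 2, 0, 3, 3, 3, 0, 3, 3, 0, 2, 2, 2, 0, 3, 0, 2, 0, 3, 0, 2, 0, 3, 3, 3, 0, 3, 3, 0, 2, 2], [3, 3, 0, 3, 3, 3, 3, 0, 2, 2], [], [], [2, 2, 2, 2], [3, 0,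 2, 0, 3, 0, 2, 0, 3, 0, 2, 2, 0, 2, 0, 3, 0, 2, 0, 2, 0, 2, 2, 0, 2], [3, 0, 2, 0, 3, 0, 2, 0, 3, 0, 3, 0, 2, 2, 0, 2, 0, 2, 0, 3, 0, 2, 0, 3, 0, 2, 2, 0, 3, 0, 2, 0, 3, 0, 2, 0, 3, 3, 0, 2, 0, 2, 0, 3, 0, 2, 2, 0, 2], [0]]
def XL : List (List Nat) := []
def BW : List (List Nat) := []
def IV : Nat := 0x2030100
def L : List Nat := [1, 2, 3]
def gs : List Nat := [1, 2]
def base : List Nat := []

end Cfsg.Agent.Spor.M11aN1
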